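/-
Semilocal Prüfer domains intersected with a subfield.
-/
import Mathlib.RingTheory.Valuation.ValuationRing
import Mathlib.RingTheory.Localization.AtPrime.Basic
import Mathlib.RingTheory.LocalRing.ResidueField.Basic
import Mathlib.RingTheory.Spectrum.Maximal.Basic
import Mathlib.Algebra.Field.GeomSum
import Mathlib.GroupTheory.OrderOfElement
import Mathlib.Tactic.FieldSimp
import Mathlib.Data.Nat.Prime.Infinite
import Mathlib.Algebra.Field.Subfield.Basic
import Mathlib.Algebra.CharP.Defs

set_option autoImplicit false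

namespace GrothLib.PruferInf

universe u

/-- At most one prime `l` makes `1 + z + ... + z^(l-1)` vanish. -/
lemma prime_geom_sum_unique {k : Type*} [Field k] (z : k) {l l' : ℕ} (hl : l.Prime) (hl' : l'.Prime)
    (h : ∑ j ∈ Finset.range l, z ^ j = 0) (h' : ∑ j ∈ Finset.range l', z ^ j = 0) : l = l' := by
  by_contra hne
  have hco : Nat.Coprime l l' := (Nat.coprime_primes hl hl').mpr hne
  rcases eq_or_ne z 1 with rfl | hz
  · simp only [one_pow, Finset.sum_const, Finset.card_range, nsmul_eq_mul, mul_one] at h h'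
    obtain ⟨a, b, hab⟩ := Int.isCoprime_iff_gcd_eq_one.mpr (by simpa using hco : Int.gcd (l : ℤ) l' = 1)
    have := congrArg (Int.cast : ℤ → k) hab
    simp [h, h'] at this
  · have e : ∀ {n : ℕ}, ∑ j ∈ Finset.range n, z ^ j = 0 → z ^ n = 1 := fun hn => by
      have := geom_sum_mul z _ ▸ (congrArg (· * (z - 1)) hn)
      simpa [sub_eq_zero] using this
    have h1 := orderOf_dvd_of_pow_eq_one (e h)
    have h1' := orderOf_dvd_of_pow_eq_one (e h')
    exact hz (orderOf_eq_one_iff.mp (Nat.eq_one_of_dvd_coprimes hco h1 h1'))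

variable {R L : Type u} [CommRing R] [IsDomain R] [Field L] [Algebra R L] [IsFractionRing R L]

/-- The image of `R_m` in `L`. -/
noncomputable def toL (m : Ideal R) [m.IsPrime] : Localization.AtPrime m →+* L :=
  IsLocalization.lift (M := m.primeCompl) (g := algebraMap R L) fun y =>
    IsUnit.mk0 _ ((map_ne_zero_iff _ (IsFractionRing.injective R L)).mpr
      fun h => y.2 (show (y : R) ∈ m by rw [h]; exact m.zero_mem))

lemma toL_algebraMap (m : Ideal R) [m.IsPrime] (r : R) :
    toL (L := L) m (algebraMap R _ r) = algebraMap R L r := IsLocalization.lift_eq _ r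

lemma mem_range_of_forall (y : L)
    (h : ∀ m : MaximalSpectrum R, y ∈ (toL (L := L) m.asIdeal).range) :
    y ∈ (algebraMap R L).range := by
  let D : Ideal R :=
    { carrier := {b | ∃ a, algebraMap R L b * y = algebraMap R L a}
      zero_mem' := ⟨0, by simp⟩
      add_mem' := fun {b b'} ⟨a, ha⟩ ⟨a', ha'⟩ => ⟨a + a', by rw [map_add, add_mul, ha, ha', map_add]⟩
      smul_mem' := fun r b ⟨a, ha⟩ => ⟨r * a, by rw [smul_eq_mul, map_mul, mul_assoc, ha, map_mul]⟩ }
  by_cases hD : D = ⊤
  · obtain ⟨a, ha⟩ := (Ideal.eq_top_iff_one D).mp hD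
    exact ⟨a, by rw [← ha, map_one, one_mul]⟩
  · obtain ⟨m, hm, hDm⟩ := Ideal.exists_le_maximal D hD
    obtain ⟨t, rfl⟩ := h ⟨m, hm⟩
    obtain ⟨⟨a, b⟩, hb⟩ := IsLocalization.surj m.primeCompl t
    refine absurd (hDm ⟨a, ?_⟩) b.2
    rw [← toL_algebraMap m, ← map_mul, mul_comm, hb, toL_algebraMap]

variable (hR : ∀ (p : Ideal R) [p.IsPrime], ValuationRing (Localization.AtPrime p))
  [Finite (MaximalSpectrum R)] (K : Subfield L)

include hR

/-- The key decomposition. -/
theorem exists_geom (x : L) (hx : x ∈ K) : ∃ (l : ℕ) (b : L), 3 ≤ l ∧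
    (∀ j < l, b * x ^ j ∈ (algebraMap R L).range ⊓ K.toSubring) ∧
    ∑ j ∈ Finset.range l, b * x ^ j = 1 := by
  classical
  haveI := Fintype.ofFinite (MaximalSpectrum R)
  -- bad primes
  let Bad : MaximalSpectrum R → Set ℕ := fun m => {l | l.Prime ∧ ∃ t : Localization.AtPrime m.asIdeal,
    toL (L := L) m.asIdeal t = x ∧
      IsLocalRing.residue _ (∑ j ∈ Finset.range l, t ^ j) = 0}
  have hBad : ∀ m, (Bad m).Subsingleton := by
    rintro m l ⟨hl, t, ht, hs⟩ l' ⟨hl', t', ht', hs'⟩
    haveI : FaithfulSMul R L := (faithfulSMul_iff_algebraMap_injective R L).mpr (IsFractionRing.injective R L)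
    have hinj : Function.Injective (toL (L := L) m.asIdeal) :=
      (IsLocalization.lift_injective_iff _).mpr fun a a' => by
        rw [(IsLocalization.injective (Localization.AtPrime m.asIdeal)
          m.asIdeal.primeCompl_le_nonZeroDivisors).eq_iff, (IsFractionRing.injective R L).eq_iff]
    obtain rfl := hinj (ht.trans ht'.symm)
    rw [map_sum] at hs hs'
    simp only [map_pow] at hs hs'
    exact prime_geom_sum_unique _ hl hl' hs hs'
  have hfin : (⋃ m, Bad m).Finite := Set.finite_iUnion fun m => (hBad m).finite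
  obtain ⟨l, hl, hlp, hlbad⟩ : ∃ l, 3 ≤ l ∧ l.Prime ∧ l ∉ ⋃ m, Bad m := by
    obtain ⟨N, hN⟩ := hfin.bddAbove
    obtain ⟨l, hl, hlp⟩ := Nat.exists_infinite_primes (max 3 (N + 1))
    exact ⟨l, le_trans (le_max_left _ _) hl, hlp, fun h => by
      have := hN h
      have := le_trans (le_max_right 3 (N + 1)) hl
      omega⟩
  let f := ∑ j ∈ Finset.range l, x ^ j
  -- each `b x^j` is integral at every maximal ideal, and `f ≠ 0`
  have key : ∀ m : MaximalSpectrum R, f ≠ 0 ∧ ∀ j < l, f⁻¹ * x ^ j ∈ (toL (L := L) m.asIdeal).range := by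
    intro m
    haveI := hR m.asIdeal
    let V := Localization.AtPrime m.asIdeal
    have htot : (∃ t : V, toL m.asIdeal t = x) ∨
        ∃ t : V, t ∈ IsLocalRing.maximalIdeal V ∧ toL m.asIdeal t * x = 1 := by
      obtain ⟨a, b, hb0, rfl⟩ := IsFractionRing.div_surjective R x
      have hb : algebraMap R L b ≠ 0 :=
        (map_ne_zero_iff _ (IsFractionRing.injective R L)).mpr (nonZeroDivisors.ne_zero hb0)
      obtain ⟨c, hc | hc⟩ := ValuationRing.cond (algebraMap R V a) (algebraMap R V b)
      · have h1 := congrArg (toL (L := L) m.asIdeal) hc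
        rw [map_mul, toL_algebraMap, toL_algebraMap] at h1
        by_cases hu : IsUnit c
        · obtain ⟨d, hd⟩ := hu.exists_left_inv
          refine Or.inl ⟨d, ?_⟩
          rw [eq_div_iff hb, ← h1, mul_left_comm, ← map_mul, hd, map_one, mul_one]
        · refine Or.inr ⟨c, hu, ?_⟩
          rw [mul_div_assoc', mul_comm, h1, div_self hb]
      · refine Or.inl ⟨c, ?_⟩
        rw [eq_div_iff hb, ← toL_algebraMap m.asIdeal a, ← hc, map_mul, toL_algebraMap, mul_comm]
    rcases htot with ⟨t, ht⟩ | ⟨t, htm, ht⟩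
    · have hu : IsUnit (∑ j ∈ Finset.range l, t ^ j) := by
        by_contra hnu
        exact hlbad (Set.mem_iUnion.mpr ⟨m, hlp, t, ht,
          (IsLocalRing.residue_eq_zero_iff _).mpr hnu⟩)
      obtain ⟨d, hd⟩ := hu.exists_left_inv
      have h1 := congrArg (toL (L := L) m.asIdeal) hd
      simp only [map_mul, map_sum, map_pow, map_one, ht] at h1
      have hf : f ≠ 0 := right_ne_zero_of_mul_eq_one h1
      refine ⟨hf, fun j _ => ⟨d * t ^ j, ?_⟩⟩
      rw [map_mul, map_pow, ht, eq_inv_of_mul_eq_one_left h1]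
    · -- `x = 1/t`
      let g := ∑ j ∈ Finset.range l, t ^ j
      have hu : IsUnit g := by
        rw [← IsLocalRing.notMem_maximalIdeal]
        intro hg
        refine (IsLocalRing.maximalIdeal.isMaximal V).ne_top ((Ideal.eq_top_iff_one _).mpr ?_)
        simp only [g] at hg
        rw [show l = (l - 1) + 1 by omega, Finset.sum_range_succ'] at hg
        simp only [pow_zero] at hg
        exact (Ideal.add_mem_iff_right _ (Submodule.sum_mem _ fun i _ => by
          rw [pow_succ]; exact Ideal.mul_mem_left _ _ htm)).mp hg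
      obtain ⟨d, hd⟩ := hu.exists_left_inv
      have hfg : toL m.asIdeal (t ^ (l - 1)) * f = toL m.asIdeal g := by
        simp only [f, g, map_sum, Finset.mul_sum]
        rw [← Finset.sum_range_reflect (fun i => toL (L := L) m.asIdeal (t ^ i))]
        refine Finset.sum_congr rfl fun j hj => ?_
        have hj' := Finset.mem_range.mp hj
        rw [show l - 1 = (l - 1 - j) + j by omega, pow_add, map_mul, mul_assoc, map_pow _ _ j,
          ← mul_pow, ht, one_pow, mul_one, Nat.add_sub_cancel_right]
      have h1 := congrArg (toL (L := L) m.asIdeal) hd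
      rw [map_mul, ← hfg, map_one, ← mul_assoc, ← map_mul] at h1
      have hf : f ≠ 0 := right_ne_zero_of_mul_eq_one h1
      refine ⟨hf, fun j hj => ⟨d * t ^ (l - 1 - j), ?_⟩⟩
      rw [← eq_inv_of_mul_eq_one_left h1]
      conv_rhs => rw [show l - 1 = (l - 1 - j) + j by omega, pow_add, ← mul_assoc, map_mul,
        map_pow _ _ j, mul_assoc, ← mul_pow, ht, one_pow, mul_one]
  obtain ⟨m₀⟩ : Nonempty (MaximalSpectrum R) := by
    obtain ⟨m, hm⟩ := Ideal.exists_maximal R
    exact ⟨⟨m, hm⟩⟩
  refine ⟨l, f⁻¹, hl, fun j hj => ⟨mem_range_of_forall _ fun m => (key m).2 j hj, ?_⟩, ?_⟩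
  · exact K.mul_mem (K.inv_mem (K.sum_mem fun i _ => K.pow_mem hx i)) (K.pow_mem hx j)
  · rw [← Finset.mul_sum]
    exact inv_mul_cancel₀ (key m₀).1

theorem exists_div (x : L) (hx : x ∈ K) : ∃ a b : L, a ∈ (algebraMap R L).range ⊓ K.toSubring ∧
    b ∈ (algebraMap R L).range ⊓ K.toSubring ∧ b ≠ 0 ∧ x = a / b := by
  obtain ⟨l, b, hl, hmem, hsum⟩ := exists_geom hR K x hx
  have hb : b ≠ 0 := fun h => by simp [h] at hsum
  refine ⟨b * x ^ 1, b * x ^ 0, hmem 1 (by omega), hmem 0 (by omega), by simpa using hb, ?_⟩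
  rw [pow_one, pow_zero, mul_one, mul_comm, mul_div_assoc, div_self hb, mul_one]

theorem valuationRing_localization (p : Ideal ↥((algebraMap R L).range ⊓ K.toSubring)) [p.IsPrime] :
    ValuationRing (Localization.AtPrime p) := by
  classical
  let S := (algebraMap R L).range ⊓ K.toSubring
  have hcomp : ∀ a b : S, (∃ c d : S, d ∉ p ∧ a * c = b * d) ∨ ∃ c d : S, d ∉ p ∧ b * c = a * d := by
    intro a b
    rcases eq_or_ne (a : L) 0 with ha | ha
    · refine Or.inr ⟨0, 1, fun h => ‹p.IsPrime›.ne_top ((Ideal.eq_top_iff_one p).mpr h), ?_⟩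
      rw [mul_zero, mul_one]
      exact (Subtype.ext ha.symm : (0 : S) = a)
    obtain ⟨l, w, hl, hmem, hsum⟩ := exists_geom hR K ((b : L) / a) (K.div_mem b.2.2 a.2.2)
    let e : ℕ → S := fun j => if h : j < l then ⟨_, hmem j h⟩ else 0
    have he : ∀ j < l, (e j : L) = w * ((b : L) / a) ^ j := fun j hj => by simp [e, hj]
    by_cases h0 : e 0 ∈ p
    · refine Or.inr ⟨e (l - 2), e (l - 1), fun hlast => ?_, Subtype.ext ?_⟩
      · have hall : ∀ j < l, e j ∈ p := by
          suffices H : ∀ j, j + 1 < l → e j ∈ p by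
            intro j hj
            rcases eq_or_lt_of_le (Nat.le_sub_one_of_lt hj) with h | h
            · exact h ▸ hlast
            · exact H j (by omega)
          intro j hj
          induction j with
          | zero => exact h0
          | succ j ih =>
            refine (Ideal.IsPrime.mem_of_pow_mem ‹_› 2 ?_)
            have h2 : e (j + 1) ^ 2 = e j * e (j + 2) := Subtype.ext (by
              push_cast
              rw [he _ (by omega), he _ (by omega), he _ (by omega)]
              ring)
            rw [h2]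
            exact Ideal.mul_mem_right _ _ (ih (by omega))
        refine ‹p.IsPrime›.ne_top ((Ideal.eq_top_iff_one p).mpr ?_)
        have h3 : (1 : S) = ∑ j ∈ Finset.range l, e j := Subtype.ext (by
          rw [Subring.coe_one, ← hsum]
          push_cast
          exact Finset.sum_congr rfl fun j hj => (he j (Finset.mem_range.mp hj)).symm)
        rw [h3]
        exact Submodule.sum_mem _ fun j hj => hall j (Finset.mem_range.mp hj)
      · push_cast
        rw [he _ (by omega), he _ (by omega), show l - 1 = (l - 2) + 1 by omega, pow_succ]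
        field_simp
    · refine Or.inl ⟨e 1, e 0, h0, Subtype.ext ?_⟩
      push_cast
      rw [he _ (by omega), he _ (by omega)]
      field_simp
  refine (ValuationRing.iff_dvd_total).mpr ⟨fun x y => ?_⟩
  obtain ⟨⟨a, s⟩, hx⟩ := IsLocalization.surj p.primeCompl x
  obtain ⟨⟨b, t⟩, hy⟩ := IsLocalization.surj p.primeCompl y
  have hu : ∀ d : S, d ∉ p → IsUnit (algebraMap S (Localization.AtPrime p) d) := fun d hd =>
    IsLocalization.map_units (Localization.AtPrime p) (⟨d, hd⟩ : p.primeCompl)
  have ex : Associated x (algebraMap _ (Localization.AtPrime p) a) := ⟨(hu s.1 s.2).unit, hx⟩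
  have ey : Associated y (algebraMap _ (Localization.AtPrime p) b) := ⟨(hu t.1 t.2).unit, hy⟩
  rw [ex.dvd_iff_dvd_left, ey.dvd_iff_dvd_right, ey.dvd_iff_dvd_left, ex.dvd_iff_dvd_right]
  rcases hcomp a b with ⟨c, d, hd, hcd⟩ | ⟨c, d, hd, hcd⟩
  · left
    rw [← (hu d hd).dvd_mul_right, ← map_mul, ← hcd, map_mul]
    exact dvd_mul_right _ _
  · right
    rw [← (hu d hd).dvd_mul_right, ← map_mul, ← hcd, map_mul]
    exact dvd_mul_right _ _

theorem finite_maximalSpectrum : Finite (MaximalSpectrum ↥((algebraMap R L).range ⊓ K.toSubring)) := by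
  classical
  haveI := Fintype.ofFinite (MaximalSpectrum R)
  let S := (algebraMap R L).range ⊓ K.toSubring
  let incl : S →+* (algebraMap R L).range := Subring.inclusion inf_le_left
  let eR : R ≃+* (algebraMap R L).range :=
    RingEquiv.ofBijective _ ⟨fun a b h => IsFractionRing.injective R L (congrArg Subtype.val h),
      (algebraMap R L).rangeRestrict_surjective⟩
  let g : S →+* R := eR.symm.toRingHom.comp incl
  have hg : ∀ s : S, algebraMap R L (g s) = (s : L) := fun s =>
    congrArg Subtype.val (eR.apply_symm_apply (incl s))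
  have hcover : ∀ M : MaximalSpectrum S, ∃ m : MaximalSpectrum R, M.asIdeal = m.asIdeal.comap g := by
    intro M
    haveI := M.isMaximal
    have hsub : (M.asIdeal : Set S) ⊆
        ⋃ m ∈ ((Finset.univ : Finset (MaximalSpectrum R)) : Set (MaximalSpectrum R)), (m.asIdeal.comap g : Set S) := by
      intro s hs
      by_contra hns
      simp only [Set.mem_iUnion, not_exists, Finset.coe_univ, Set.mem_univ, SetLike.mem_coe,
        Ideal.mem_comap, forall_true_left] at hns
      have hu : IsUnit (g s) := by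
        by_contra hu
        obtain ⟨m, hm, hle⟩ := exists_max_ideal_of_mem_nonunits hu
        exact hns ⟨m, hm⟩ hle
      obtain ⟨r, hr⟩ := hu.exists_left_inv
      have h1 := congrArg (algebraMap R L) hr
      rw [map_mul, hg, map_one] at h1
      refine M.isMaximal.ne_top (Ideal.eq_top_of_isUnit_mem _ hs
        (isUnit_iff_exists_inv'.mpr ⟨⟨algebraMap R L r, ⟨r, rfl⟩, ?_⟩, Subtype.ext h1⟩))
      rw [eq_inv_of_mul_eq_one_left h1]
      exact K.inv_mem s.2.2
    obtain ⟨m₀⟩ : Nonempty (MaximalSpectrum R) := by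
      obtain ⟨m, hm⟩ := Ideal.exists_maximal R
      exact ⟨⟨m, hm⟩⟩
    obtain ⟨m, -, hle⟩ := (Ideal.subset_union_prime m₀ m₀
      (fun m _ _ _ => m.isMaximal.isPrime.comap g)).mp hsub
    exact ⟨m, M.isMaximal.eq_of_le (m.isMaximal.isPrime.comap g).ne_top hle⟩
  choose m hm using hcover
  refine Finite.of_injective m fun M M' h => MaximalSpectrum.ext ?_
  rw [hm M, hm M', h]

end GrothLib.PruferInf
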