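/-
Valuation rings in finitely generated fields have finite rank.
-/
import Groth.Agent.Lib.PruferInf.Basic
import Mathlib.RingTheory.Valuation.ValuationRing
import Mathlib.RingTheory.AlgebraicIndependent.TranscendenceBasis
import Mathlib.RingTheory.Spectrum.Prime.Basic
import Mathlib.RingTheory.KrullDimension.Basic
import Mathlib.RingTheory.Ideal.Height

set_option autoImplicit false

namespace GrothLib.PruferInf

universe u

lemma monomial_val_injective {K Γ : Type*} [Field K] [LinearOrderedCommGroupWithZero Γ]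
    (v : Valuation K Γ) {n : ℕ} (x : Fin n → K) (h1 : ∀ i, v (x i) < 1) (h0 : ∀ i, x i ≠ 0)
    (hsep : ∀ i i', i < i' → ∀ M : ℕ, v (x i) < v (x i') ^ M) (e e' : Fin n → ℕ)
    (h : ∏ i, v (x i) ^ e i = ∏ i, v (x i) ^ e' i) : e = e' := by
  classical
  have hpos : ∀ i, v (x i) ≠ 0 := fun i => (v.ne_zero_iff).mpr (h0 i)
  induction n with
  | zero => exact funext fun i => i.elim0
  | succ n ih =>
    rw [Fin.prod_univ_succ, Fin.prod_univ_succ] at h
    have hhead : e 0 = e' 0 := by
      by_contra hne
      -- a strict inequality between the two sides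
      have key : ∀ (a b : ℕ) (A B : Fin n → ℕ), a < b →
          v (x 0) ^ b * ∏ i, v (x i.succ) ^ B i < v (x 0) ^ a * ∏ i, v (x i.succ) ^ A i := by
        intro a b A B hab
        obtain ⟨c, rfl⟩ : ∃ c, b = a + (c + 1) := ⟨b - a - 1, by omega⟩
        rw [pow_add, mul_assoc]
        refine mul_lt_mul_of_pos_left ?_ (pow_pos (zero_lt_iff.mpr (hpos 0)) a)
        have h2 : v (x 0) ^ (c + 1) * ∏ i, v (x i.succ) ^ B i ≤ v (x 0) := by
          calc v (x 0) ^ (c + 1) * ∏ i, v (x i.succ) ^ B i ≤ v (x 0) ^ 1 * 1 :=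
                mul_le_mul' (pow_le_pow_right_of_le_one' (h1 0).le (by omega))
                  (Finset.prod_le_one (fun i _ => zero_le) fun i _ => pow_le_one₀ zero_le (h1 _).le)
            _ = v (x 0) := by rw [pow_one, mul_one]
        refine h2.trans_lt ?_
        rcases Nat.eq_zero_or_pos n with rfl | hn
        · simpa using h1 0
        · let i1 : Fin n := ⟨0, hn⟩
          refine (hsep 0 i1.succ (Fin.succ_pos _) (∑ i, A i)).trans_le ?_
          rw [← Finset.prod_pow_eq_pow_sum]
          refine Finset.prod_le_prod (fun i _ => zero_le) fun i _ => pow_le_pow_left₀ zero_le ?_ _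
          rcases eq_or_ne i i1 with rfl | hi
          · exact le_rfl
          · have hlt : i1.succ < i.succ :=
              Fin.succ_lt_succ_iff.mpr (lt_of_le_of_ne (Fin.mk_le_of_le_val (Nat.zero_le _)) (Ne.symm hi))
            simpa using (hsep _ _ hlt 1).le
      rcases Nat.lt_or_gt_of_ne hne with hlt | hlt
      · exact absurd h.symm (key _ _ (fun i => e i.succ) (fun i => e' i.succ) hlt).ne
      · exact absurd h (key _ _ (fun i => e' i.succ) (fun i => e i.succ) hlt).ne
    rw [hhead] at h
    have h' := mul_left_cancel₀ (pow_ne_zero _ (hpos 0)) h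
    have := ih (fun i => x i.succ) (fun i => h1 _) (fun i => h0 _)
      (fun i i' hii' M => hsep _ _ (Fin.succ_lt_succ_iff.mpr hii') M) (fun i => e i.succ)
      (fun i => e' i.succ) h' (fun i => hpos _)
    exact funext (Fin.cases hhead (congrFun this))

variable {V : Type u} [CommRing V] [IsDomain V] [ValuationRing V]
  {K : Type u} [Field K] [Algebra V K] [IsFractionRing V K]

lemma exists_separated (l : LTSeries (PrimeSpectrum V)) (n : ℕ) (hn : l.length = n + 1) :
    ∃ (x : Fin (n + 1) → K) (j : Fin (n + 1)), (∀ i, ValuationRing.valuation V K (x i) < 1) ∧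
      (∀ i, x i ≠ 0) ∧
      (∀ i i', i < i' → ∀ M : ℕ, ValuationRing.valuation V K (x i) < ValuationRing.valuation V K (x i') ^ M) ∧
      ∀ c : ℤ, (c : K) ≠ 0 →
        ∃ k : ℕ, ValuationRing.valuation V K (c : K) = ValuationRing.valuation V K (x j) ^ k := by
  classical
  let v := ValuationRing.valuation V K
  let P : Fin (n + 2) → Ideal V := fun i => (l.toFun (Fin.cast (by rw [hn]) i)).asIdeal
  have hP : ∀ i, (P i).IsPrime := fun i => (l.toFun _).isPrime
  have hmono : ∀ i j, i < j → P i < P j := fun i j hij =>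
    (PrimeSpectrum.asIdeal_lt_asIdeal _ _).mpr (l.strictMono (by simpa using hij))
  have hmono' : ∀ i j, i ≤ j → P i ≤ P j := fun i j hij => by
    rcases eq_or_lt_of_le hij with rfl | h
    · exact le_rfl
    · exact (hmono i j h).le
  have hle1 : ∀ a : V, v (algebraMap V K a) ≤ 1 := fun a =>
    (Valuation.mem_integer_iff _ _).mp ((ValuationRing.mem_integer_iff V K _).mpr ⟨a, rfl⟩)
  have hinj := IsFractionRing.injective V K
  have hunit : ∀ a : V, IsUnit a → v (algebraMap V K a) = 1 := by
    intro a ha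
    obtain ⟨b, hb⟩ := ha.exists_left_inv
    refine le_antisymm (hle1 a) ?_
    have h1 : v (algebraMap V K b) * v (algebraMap V K a) = 1 := by rw [← map_mul, ← map_mul, hb, map_one, map_one]
    rw [← h1]
    exact mul_le_of_le_one_left' (hle1 b)
  have hlt : ∀ (Q : Ideal V) (a b : V), Q.IsPrime → a ∈ Q → b ∉ Q → ∀ M : ℕ,
      v (algebraMap V K a) < v (algebraMap V K b) ^ M := by
    intro Q a b hQ ha hb M
    by_contra! hcon
    rw [← map_pow, ← map_pow] at hcon
    have hb0 : b ≠ 0 := fun h => hb (h ▸ Q.zero_mem)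
    rcases eq_or_ne a 0 with rfl | ha0
    · rw [map_zero, map_zero] at hcon
      exact pow_ne_zero M hb0 (hinj (by simpa using hcon))
    have ha' : algebraMap V K a ≠ 0 := (map_ne_zero_iff _ hinj).mpr ha0
    have h2 : v (algebraMap V K (b ^ M) / algebraMap V K a) ≤ 1 := by
      rw [map_div₀, div_le_one₀ (zero_lt_iff.mpr ((v.ne_zero_iff).mpr ha'))]
      exact hcon
    obtain ⟨c, hc⟩ := (ValuationRing.mem_integer_iff V K _).mp ((Valuation.mem_integer_iff _ _).mpr h2)
    refine hb (hQ.mem_of_pow_mem M ?_)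
    rw [show b ^ M = c * a from hinj (by rw [map_mul, hc, div_mul_cancel₀ _ ha'])]
    exact Q.mul_mem_left c ha
  have hnu : ∀ a : V, ∀ i, a ∈ P i → v (algebraMap V K a) < 1 := fun a i ha => by
    simpa using hlt (P i) a 1 (hP i) ha ((hP i).ne_top ∘ (Ideal.eq_top_iff_one _).mpr) 0
  choose y hy hy' using fun i : Fin (n + 1) => SetLike.exists_of_lt (hmono i.castSucc i.succ Fin.castSucc_lt_succ)
  have hy0 : ∀ i, y i ≠ 0 := fun i h => hy' i (h ▸ (P _).zero_mem)
  by_cases hp : ∃ p : ℕ, (p : V) ≠ 0 ∧ ¬ IsUnit (p : V)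
  · let p := Nat.find hp
    obtain ⟨hp0, hpu⟩ : (p : V) ≠ 0 ∧ ¬ IsUnit (p : V) := Nat.find_spec hp
    have hpmin : ∀ c : ℕ, c < p → (c : V) ≠ 0 → IsUnit (c : V) := fun c hc h0 =>
      of_not_not fun hu => Nat.find_min hp hc ⟨h0, hu⟩
    have hp1 : p.Prime := by
      have h2 : 2 ≤ p := by
        by_contra! h
        interval_cases p
        · exact hp0 Nat.cast_zero
        · exact hpu (by simp)
      refine Nat.prime_def_lt.mpr ⟨h2, fun c hc hdvd => ?_⟩
      obtain ⟨d, hd⟩ := hdvd
      by_contra hc1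
      have hd' : d < p := by
        rcases Nat.lt_or_ge c 2 with h | h
        · interval_cases c
          · omega
          · exact absurd rfl hc1
        · nlinarith
      rw [hd, Nat.cast_mul] at hp0 hpu
      exact hpu ((hpmin c hc (left_ne_zero_of_mul hp0)).mul (hpmin d hd' (right_ne_zero_of_mul hp0)))
    -- the level of `p`
    obtain ⟨j, hj1, hj2⟩ : ∃ j : Fin (n + 1),
        (∀ i, i < j → (p : V) ∉ P i.succ) ∧ ∀ i, j < i → (p : V) ∈ P i.castSucc := by
      by_cases hex : ∃ i : Fin (n + 1), (p : V) ∈ P i.succ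
      · let j := (Finset.univ.filter fun i : Fin (n + 1) => (p : V) ∈ P i.succ).min'
          ⟨hex.choose, by simp [hex.choose_spec]⟩
        have hj : (p : V) ∈ P j.succ := (Finset.mem_filter.mp (Finset.min'_mem
          (Finset.univ.filter fun i : Fin (n + 1) => (p : V) ∈ P i.succ) _)).2
        refine ⟨j, fun i hi hc => ?_, fun i hi => hmono' _ _ (Fin.succ_le_castSucc_iff.mpr hi) hj⟩
        exact absurd (Finset.min'_le _ i (by simp [hc])) (not_le.mpr hi)
      · exact ⟨Fin.last n, fun i _ hc => hex ⟨i, hc⟩, fun i hi => absurd hi (not_lt.mpr (Fin.le_last i))⟩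
    have hpv : v (algebraMap V K (p : V)) < 1 := by
      refine lt_of_le_of_ne (hle1 _) fun h => hpu ?_
      have hp' : algebraMap V K (p : V) ≠ 0 := (map_ne_zero_iff _ hinj).mpr hp0
      obtain ⟨c, hc⟩ := (ValuationRing.mem_integer_iff V K ((algebraMap V K (p : V))⁻¹)).mp
        ((Valuation.mem_integer_iff _ _).mpr (le_of_eq (by rw [map_inv₀]; exact inv_eq_one.mpr h)))
      exact isUnit_iff_exists_inv'.mpr ⟨c, hinj (by rw [map_mul, hc, inv_mul_cancel₀ hp', map_one])⟩
    refine ⟨fun i => algebraMap V K (Function.update y j (p : V) i), j, fun i => ?_, fun i => ?_,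
      fun i i' hii' M => ?_, fun c hc => ?_⟩
    · rcases eq_or_ne i j with rfl | h
      · simpa using hpv
      · simpa [h] using hnu _ _ (hy i)
    · rcases eq_or_ne i j with rfl | h
      · simp only [Function.update_self]
        exact (map_ne_zero_iff _ hinj).mpr hp0
      · simpa [h, map_eq_zero_iff _ hinj] using hy0 i
    · rcases eq_or_ne i j with rfl | hi
      · simpa [hii'.ne'] using hlt (P i'.castSucc) _ _ (hP _) (hj2 i' hii') (hy' i') M
      · rcases eq_or_ne i' j with rfl | hi'
        · simpa [hi] using hlt (P i.succ) _ _ (hP _) (hy i) (hj1 i hii') M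
        · simpa [hi, hi'] using hlt (P i.succ) _ _ (hP _) (hy i)
            (fun h => hy' i' (hmono' _ _ (Fin.succ_le_castSucc_iff.mpr hii') h)) M
    · simp only [Function.update_self]
      have hN : ∀ N : ℕ, (N : K) ≠ 0 → ∃ k : ℕ, v (N : K) = v (algebraMap V K (p : V)) ^ k := by
        intro N
        induction N using Nat.strong_induction_on with
        | _ N ih =>
          intro hN
          by_cases hd : p ∣ N
          · obtain ⟨N', rfl⟩ := hd
            have hN' : N' ≠ 0 := fun h => hN (by simp [h])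
            rw [Nat.cast_mul] at hN
            obtain ⟨k, hk⟩ := ih N' ((lt_mul_iff_one_lt_left (Nat.pos_of_ne_zero hN')).mpr hp1.one_lt)
              (right_ne_zero_of_mul hN)
            exact ⟨k + 1, by rw [Nat.cast_mul, map_mul, hk, pow_succ', map_natCast (algebraMap V K)]⟩
          · refine ⟨0, ?_⟩
            rw [pow_zero, ← map_natCast (algebraMap V K)]
            refine hunit _ ?_
            obtain ⟨a, b, hab⟩ := Int.isCoprime_iff_gcd_eq_one.mpr
              (show Int.gcd (p : ℤ) N = 1 by simpa using (hp1.coprime_iff_not_dvd.mpr hd))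
            have hab' : (a : V) * p + b * N = 1 := by exact_mod_cast congrArg (Int.cast : ℤ → V) hab
            rcases IsLocalRing.isUnit_or_isUnit_of_add_one hab' with h | h
            · exact absurd (isUnit_of_mul_isUnit_right h) hpu
            · exact isUnit_of_mul_isUnit_right h
      rcases Int.eq_nat_or_neg c with ⟨N, rfl | rfl⟩
      · rw [Int.cast_natCast] at hc ⊢
        exact hN N hc
      · rw [Int.cast_neg, Int.cast_natCast, neg_ne_zero] at hc
        rw [Int.cast_neg, Int.cast_natCast, Valuation.map_neg]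
        exact hN N hc
  · push Not at hp
    refine ⟨fun i => algebraMap V K (y i), 0, fun i => hnu _ _ (hy i),
      fun i => by simpa [map_eq_zero_iff _ hinj] using hy0 i,
      fun i i' hii' M => hlt (P i.succ) _ _ (hP _) (hy i)
        (fun h => hy' i' (hmono' _ _ (Fin.succ_le_castSucc_iff.mpr hii') h)) M, fun c hc => ⟨0, ?_⟩⟩
    have hN : ∀ N : ℕ, (N : K) ≠ 0 → v (N : K) = 1 := fun N hN => by
      rw [← map_natCast (algebraMap V K)] at hN ⊢
      exact hunit _ (hp N fun h => hN (by rw [h, map_zero]))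
    rw [pow_zero]
    rcases Int.eq_nat_or_neg c with ⟨N, rfl | rfl⟩
    · rw [Int.cast_natCast] at hc ⊢
      exact hN N hc
    · rw [Int.cast_neg, Int.cast_natCast, neg_ne_zero] at hc
      rw [Int.cast_neg, Int.cast_natCast, Valuation.map_neg]
      exact hN N hc

theorem length_le_of_trdeg_le (d : ℕ) (htr : Algebra.trdeg (⊥ : Subfield K) K ≤ d)
    (l : LTSeries (PrimeSpectrum V)) : l.length ≤ d + 1 := by
  classical
  rcases Nat.eq_zero_or_pos l.length with h0 | h0
  · omega
  obtain ⟨n, hn⟩ : ∃ n, l.length = n + 1 := ⟨l.length - 1, by omega⟩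
  obtain ⟨x, j, h1, hx0, hsep, hint⟩ := exists_separated (K := K) l n hn
  let v := ValuationRing.valuation V K
  let F := (⊥ : Subfield K)
  have hxj : x j ≠ 0 := hx0 j
  have hF : ∀ c : K, c ∈ F → ∃ m d : ℤ, (d : K) ≠ 0 ∧ c = m / d := by
    intro c hc
    rw [show F = Subfield.closure ∅ from (Subfield.closure_empty).symm] at hc
    induction hc using Subfield.closure_induction with
    | mem y hy => exact absurd hy (Set.notMem_empty y)
    | one => exact ⟨1, 1, by simp, by simp⟩
    | add y z _ _ hy hz =>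
      obtain ⟨m, d, hd, rfl⟩ := hy
      obtain ⟨m', d', hd', rfl⟩ := hz
      exact ⟨m * d' + d * m', d * d', by simp [hd, hd'], by push_cast; rw [div_add_div _ _ hd hd']⟩
    | neg y _ hy =>
      obtain ⟨m, d, hd, rfl⟩ := hy
      exact ⟨-m, d, hd, by simp [neg_div]⟩
    | inv y _ hy =>
      obtain ⟨m, d, hd, rfl⟩ := hy
      by_cases hm : (m : K) = 0
      · exact ⟨0, 1, by simp, by simp [hm]⟩
      · exact ⟨d, m, hm, by rw [inv_div]⟩
    | mul y z _ _ hy hz =>
      obtain ⟨m, d, hd, rfl⟩ := hy
      obtain ⟨m', d', hd', rfl⟩ := hz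
      exact ⟨m * m', d * d', by simp [hd, hd'], by push_cast; rw [div_mul_div_comm]⟩
  have hval : ∀ c : F, c ≠ 0 → ∃ a b : ℕ, v (c : K) * v (x j) ^ b = v (x j) ^ a := by
    intro c hc
    obtain ⟨m, d, hd, hcd⟩ := hF c c.2
    have hm : (m : K) ≠ 0 := fun h => hc (Subtype.ext (by rw [hcd, h, zero_div]; rfl))
    obtain ⟨a, ha⟩ := hint m hm
    obtain ⟨b, hb⟩ := hint d hd
    exact ⟨a, b, by rw [hcd, map_div₀, ha, hb, div_mul_cancel₀ _ (pow_ne_zero _ ((v.ne_zero_iff).mpr hxj))]⟩
  have hindep : AlgebraicIndependent F fun i : {i : Fin (n + 1) // i ≠ j} => x i := by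
    rw [algebraicIndependent_iff]
    intro Φ hΦ
    by_contra hne
    choose a b hab using fun d : {d // d ∈ Φ.support} =>
      hval (Φ.coeff d.1) (MvPolynomial.mem_support_iff.mp d.2)
    let B := Finset.univ.sup b
    let term : {d // d ∈ Φ.support} → K := fun d =>
      x j ^ B * ((Φ.coeff d.1 : F) : K) * ∏ i, x i.1 ^ d.1 i
    let ex : {d // d ∈ Φ.support} → Fin (n + 1) → ℕ := fun d i =>
      if h : i = j then B - b d + a d else d.1 ⟨i, h⟩
    have hterm : ∀ d, v (term d) = ∏ i, v (x i) ^ ex d i := by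
      intro d
      rw [← Finset.mul_prod_erase _ _ (Finset.mem_univ j)]
      simp only [term, map_mul, map_pow, map_prod, ex, dite_true]
      congr 1
      · rw [pow_add, ← hab d, mul_comm (v ((Φ.coeff d.1 : F) : K)), ← mul_assoc, ← pow_add,
          Nat.sub_add_cancel (Finset.le_sup (f := b) (Finset.mem_univ d))]
      · rw [Finset.prod_subtype (Finset.univ.erase j) (p := fun i => i ≠ j) (fun i => by simp)]
        refine Finset.prod_congr rfl fun i _ => ?_
        rw [dif_neg i.2]
    have hinj : Function.Injective fun d => v (term d) := by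
      intro d d' h
      simp only [hterm] at h
      have he := monomial_val_injective v x h1 hx0 hsep _ _ h
      refine Subtype.ext (Finsupp.ext fun i => ?_)
      simpa [ex, i.2] using congrFun he i.1
    have hsum : ∑ d, term d = 0 := by
      simp only [term, mul_assoc, ← Finset.mul_sum]
      rw [Finset.sum_coe_sort Φ.support (fun d => ((Φ.coeff d : F) : K) * ∏ i, x i.1 ^ d i)]
      rw [MvPolynomial.aeval_def, MvPolynomial.eval₂_eq'] at hΦ
      exact mul_eq_zero_of_right _ hΦ
    obtain ⟨d0, hd0⟩ : ∃ d, d ∈ Φ.support := MvPolynomial.support_nonempty.mpr hne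
    obtain ⟨dm, -, hdm⟩ := (Finset.univ : Finset {d // d ∈ Φ.support}).exists_max_image
      (fun d => v (term d)) ⟨⟨d0, hd0⟩, Finset.mem_univ _⟩
    have h2 := v.map_sum_eq_of_lt (f := term) (Finset.mem_univ dm) fun d hd =>
      lt_of_le_of_ne (hdm d (Finset.mem_univ _)) fun h => by
        simp only [Finset.mem_sdiff, Finset.mem_singleton] at hd
        exact hd.2 (hinj h)
    rw [hsum, map_zero, hterm] at h2
    exact Finset.prod_ne_zero_iff.mpr (fun i _ => pow_ne_zero _ ((v.ne_zero_iff).mpr (hx0 i))) h2.symm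
  have h3 := hindep.lift_cardinalMk_le_trdeg.trans (Cardinal.lift_le.mpr htr)
  simp only [Cardinal.mk_fintype, Fintype.card_subtype_compl, Fintype.card_fin, Fintype.card_subtype_eq,
    Cardinal.lift_natCast] at h3
  have : n + 1 - 1 ≤ d := by exact_mod_cast h3
  omega

theorem length_le_of_closure_eq_top (s : Finset K) (hs : Subfield.closure (↑s : Set K) = ⊤)
    (l : LTSeries (PrimeSpectrum V)) : l.length ≤ s.card + 1 := by
  let F := (⊥ : Subfield K)
  let S := Algebra.adjoin F (↑s : Set K)
  haveI : Algebra.IsAlgebraic S K := ⟨fun z => by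
    have hz : z ∈ Subfield.closure (↑s : Set K) := by rw [hs]; trivial
    induction hz using Subfield.closure_induction with
    | mem y hy => exact isAlgebraic_algebraMap (⟨y, Algebra.subset_adjoin hy⟩ : S)
    | one => exact isAlgebraic_one
    | add y z _ _ hy hz => exact hy.add hz
    | neg y _ hy => exact hy.neg
    | inv y _ hy => exact hy.inv
    | mul y z _ _ hy hz => exact hy.mul hz⟩
  refine length_le_of_trdeg_le (K := K) s.card ?_ l
  refine (Algebra.IsAlgebraic.trdeg_le_cardinalMk F (↑s : Set K)).trans (le_of_eq ?_)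
  simp

end GrothLib.PruferInf
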